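import Groth.Agent.HomotopyNormal.Chart
import Mathlib.RingTheory.DedekindDomain.Dvr

/-!
# Invertible modules on opens of affine space over a normal scheme pull back the same along all sections
-/

set_option autoImplicit false
universe u

open CategoryTheory CategoryTheory.Limits AlgebraicGeometry TopologicalSpace
open Groth.PicAux Groth.VarietyBC.HomotopyPic

namespace Groth.HomotopyNormal

/-- Two sections of an open of affine space over a normal scheme give the same pullback of an invertible module. -/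
theorem nonempty_iso_pullback_sections {X : Scheme.{u}} [IsIntegral X] [IsLocallyNoetherian X]
    (hN : ∀ x : X, IsDomain (X.presheaf.stalk x) ∧ IsIntegrallyClosed (X.presheaf.stalk x))
    {σ : Type u} (V : (𝔸(σ; X)).Opens) (a b : X ⟶ (V : Scheme.{u}))
    (ha : a ≫ V.ι ≫ (𝔸(σ; X) ↘ X) = 𝟙 X) (hb : b ≫ V.ι ≫ (𝔸(σ; X) ↘ X) = 𝟙 X)
    (L : (V : Scheme.{u}).Modules) (hL : PicF.IsInvertible L) :
    Nonempty ((Scheme.Modules.pullback a).obj L ≅ (Scheme.Modules.pullback b).obj L) := by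
  classical
  obtain ⟨W, e, hW, -, he⟩ := exists_gen_cover hL
  let gK := X.fromSpecStalk (genericPoint X)
  have hFld : IsField (X.presheaf.stalk (genericPoint X)) := Field.toIsField X.functionField
  let _ := hFld.toField
  obtain ⟨ρK⟩ := exists_rho he (jX V gK)
    (trivial_of_open_spec (polyRing _ _) (oX V gK) _ (isInvertible_pullback (jX V gK) hL))
  let jK := jX V gK
  have hsa : secX V gK a ha ≫ jK = gK ≫ a := secX_jX V gK a ha
  have hsb : secX V gK b hb ≫ jK = gK ≫ b := secX_jX V gK b hb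
  have hle : ∀ {s : Spec X.functionField ⟶ (oX V gK : Scheme.{u})} {τ : X ⟶ (V : Scheme.{u})}
      (_ : s ≫ jK = gK ≫ τ) {A : (V : Scheme.{u}).Opens}
      (_ : τ (genericPoint X) ∈ A), ⊤ ≤ (s ≫ jK) ⁻¹ᵁ A := fun e A h => by
    rw [e]
    exact eq_top_of_mem (W := _ ⁻¹ᵁ A) h
  let αp : _ → X.functionField := fun i => if h : a (genericPoint X) ∈ W i then
    evR (secX V gK a ha) (W := jK ⁻¹ᵁ W i) (hle hsa h) (ρK.val i) else 0
  let αq : _ → X.functionField := fun i => if h : b (genericPoint X) ∈ W i then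
    evR (secX V gK b hb) (W := jK ⁻¹ᵁ W i) (hle hsb h) (ρK.val i) else 0
  have hgerm : ∀ {s : Spec X.functionField ⟶ (oX V gK : Scheme.{u})} {τ : X ⟶ (V : Scheme.{u})}
      (es : s ≫ jK = gK ≫ τ) {i j} (c : Γ((V : Scheme.{u}), W i ⊓ W j)),
      res L inf_le_left (e i) = c • res L inf_le_right (e j) →
      ∀ h : τ (genericPoint X) ∈ W i ⊓ W j,
        evR s (W := jK ⁻¹ᵁ W i) (hle es h.1) (ρK.val i) =
          X.presheaf.germ (τ ⁻¹ᵁ (W i ⊓ W j)) _ h (τ.app _ c) *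
            evR s (W := jK ⁻¹ᵁ W j) (hle es h.2) (ρK.val j) := by
    intro s τ es i j c hc h
    rw [ρK.ev_rel s (hle es h.1) (hle es h.2) c hc, evR_congr es, evR_comp, evR_fromSpecStalk]
  have hαpe : ∀ i (h : a (genericPoint X) ∈ W i),
      αp i = evR (secX V gK a ha) (W := jK ⁻¹ᵁ W i) (hle hsa h) (ρK.val i) := fun i h => dif_pos h
  have hαqe : ∀ i (h : b (genericPoint X) ∈ W i),
      αq i = evR (secX V gK b hb) (W := jK ⁻¹ᵁ W i) (hle hsb h) (ρK.val i) := fun i h => dif_pos h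
  refine nonempty_iso_of_rel hN a b hL he αp αq (fun i h => ?_) (fun i j c hc h => ?_)
    (fun i j c hc h => ?_) fun x hx => ?_
  · simp only [αp, dif_pos h]
    exact ((ρK.isUnit i).map _).ne_zero
  · exact (hαpe i h.1).trans ((hgerm hsa c hc h).trans (congrArg (_ * ·) (hαpe j h.2).symm))
  · exact (hαqe i h.1).trans ((hgerm hsb c hc h).trans (congrArg (_ * ·) (hαqe j h.2).symm))
  obtain ⟨i, hi⟩ := Opens.mem_iSup.1 (hW.symm ▸ trivial : a x ∈ iSup W)
  obtain ⟨j, hj⟩ := Opens.mem_iSup.1 (hW.symm ▸ trivial : b x ∈ iSup W)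
  refine ⟨i, j, hi, hj, ?_⟩
  have := (hN x).1
  have := (hN x).2
  have : IsPrincipalIdealRing (X.presheaf.stalk x) := by
    have hdim : Ring.KrullDimLE 1 (X.presheaf.stalk x) := Ring.krullDimLE_iff.2 hx
    have : Ring.DimensionLEOne (X.presheaf.stalk x) :=
      ⟨fun {P} hP hP' => Ring.krullDimLE_one_iff_of_noZeroDivisors.1 hdim P hP hP'⟩
    have : IsDedekindDomain (X.presheaf.stalk x) := { }
    exact IsPrincipalIdealRing.of_finite_maximals (Set.Finite.subset (Set.finite_singleton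
      (IsLocalRing.maximalIdeal (X.presheaf.stalk x))) fun m hm => IsLocalRing.eq_maximalIdeal hm)
  have hx' : genericPoint X ⤳ x := (genericPoint_spec X).specializes trivial
  let ψ : X.presheaf.stalk x ⟶ X.presheaf.stalk (genericPoint X) := X.presheaf.stalkSpecializes hx'
  let gR := X.fromSpecStalk x
  have hfs : gK = Spec.map ψ ≫ gR := (Scheme.SpecMap_stalkSpecializes_fromSpecStalk hx').symm
  let jR := jX V gR
  obtain ⟨ρR⟩ := exists_rho he jR
    (trivial_of_open_spec (polyRing _ _) (oX V gR) _ (isInvertible_pullback jR hL))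
  obtain ⟨w, hw, hwv⟩ := Rho.exists_ratio (K := X.presheaf.stalk (genericPoint X)) he hW
    (trX V gR ψ gK hfs) (trX_jX V gR ψ gK hfs) ρR ρK
  obtain ⟨u, hu, huw⟩ := exists_unit_relX V gR ψ gK hfs (inferInstance :
    IsFractionRing (X.presheaf.stalk x) X.functionField) a b ha hb w hw
  have hval : ∀ (τ : X ⟶ (V : Scheme.{u})) (hτ : τ ≫ V.ι ≫ (𝔸(σ; X) ↘ X) = 𝟙 X) (l) (hl : τ x ∈ W l)
      (hs : ⊤ ≤ (secX V gK τ hτ ≫ jK) ⁻¹ᵁ W l),
      ∃ c : X.presheaf.stalk x, IsUnit c ∧ ψ c = evR (secX V gK τ hτ) (W := ⊤) le_top w *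
        evR (secX V gK τ hτ) (W := jK ⁻¹ᵁ W l) hs (ρK.val l) := by
    intro τ hτ l hl hs
    have hR : ⊤ ≤ (secX V gR τ hτ ≫ jR) ⁻¹ᵁ W l := by
      rw [secX_jX]
      exact eq_top_of_mem (W := τ ⁻¹ᵁ W l) hl
    refine ⟨evR (secX V gR τ hτ) (W := jR ⁻¹ᵁ W l) hR (ρR.val l), (ρR.isUnit l).map _, ?_⟩
    have hs' : ⊤ ≤ (secX V gK τ hτ ≫ trX V gR ψ gK hfs) ⁻¹ᵁ (jR ⁻¹ᵁ W l) := by
      rw [secX_trX]
      exact (Scheme.Hom.preimage_top (f := Spec.map ψ)).ge.trans ((Spec.map ψ).preimage_mono hR)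
    rw [← hwv l _ hs hs', evR_congr (secX_trX V gR ψ gK hfs τ hτ)]
    exact (evR_specMap ψ _ (W := jR ⁻¹ᵁ W l) _ hR _).symm
  have hpη : a (genericPoint X) ∈ W i := (a ⁻¹ᵁ W i).isOpen.stableUnderGeneralization hx' hi
  have hqη : b (genericPoint X) ∈ W j := (b ⁻¹ᵁ W j).isOpen.stableUnderGeneralization hx' hj
  obtain ⟨c, hc, hap⟩ := hval a ha i hi (hle hsa hpη)
  obtain ⟨d, hd, hbq⟩ := hval b hb j hj (hle hsb hqη)
  refine ⟨d * (↑hc.unit⁻¹ * ↑hu.unit⁻¹), hd.mul ((Units.isUnit _).mul (Units.isUnit _)), ?_⟩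
  simp only [αp, αq, dif_pos hpη, dif_pos hqη]
  rw [huw] at hbq
  change _ = ψ (d * (↑hc.unit⁻¹ * ↑hu.unit⁻¹)) * _
  have h1 := congrArg ψ hc.val_inv_mul
  have h2 := congrArg ψ hu.val_inv_mul
  rw [map_mul, map_one, hap] at h1
  rw [map_mul, map_one] at h2
  rw [map_mul, map_mul, hbq]
  linear_combination (-(ψ (↑hu.unit⁻¹) * ψ u * evR (secX V gK b hb) (W := jK ⁻¹ᵁ W j) (hle hsb hqη) (ρK.val j))) * h1 -
    (evR (secX V gK b hb) (W := jK ⁻¹ᵁ W j) (hle hsb hqη) (ρK.val j)) * h2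

end Groth.HomotopyNormal
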