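import Groth.Agent.VarietyBC.HomotopyPicChart

/-!
# Charts of opens of affine space over a scheme at points of the base
-/

set_option autoImplicit false
universe u

open CategoryTheory CategoryTheory.Limits AlgebraicGeometry Opposite TopologicalSpace MvPolynomial
open Groth.PicAux Groth.VarietyBC.HomotopyPic

noncomputable section

namespace Groth.HomotopyNormal

variable {σ : Type u} {X : Scheme.{u}} {R K : CommRingCat.{u}}

/-- `Spec R[t] ⟶ 𝔸_X` over a point of the base with values in `R`. -/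
def cx (g : Spec R ⟶ X) : Spec (polyRing σ R) ⟶ 𝔸(σ; X) :=
  (AffineSpace.SpecIso σ R).inv ≫ AffineSpace.map σ g

theorem cx_comp (g : Spec R ⟶ X) (ψ : R ⟶ K) :
    cx (σ := σ) (Spec.map ψ ≫ g) =
      Spec.map (CommRingCat.ofHom (MvPolynomial.map (σ := σ) ψ.hom)) ≫ cx g := by
  rw [cx, cx, AffineSpace.map_comp, AffineSpace.map_SpecMap]
  simp only [Category.assoc, Iso.inv_hom_id_assoc]

theorem cx_over (g : Spec R ⟶ X) :
    cx (σ := σ) g ≫ (𝔸(σ; X) ↘ X) = Spec.map (CommRingCat.ofHom C) ≫ g := by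
  rw [cx, Category.assoc, AffineSpace.map_over, AffineSpace.SpecIso_inv_over_assoc]

/-- Points of affine space over `Spec R` are evaluations. -/
theorem exists_eval (g : Spec R ⟶ X) (p : Spec R ⟶ 𝔸(σ; X)) (hp : p ≫ (𝔸(σ; X) ↘ X) = g) :
    ∃ v : σ → R, Spec.map (CommRingCat.ofHom (eval v)) ≫ cx g = p := by
  let p' : Spec R ⟶ 𝔸(σ; Spec R) :=
    (AffineSpace.isPullback_map (n := σ) g).lift p (𝟙 _) (by rw [hp, Category.id_comp])
  obtain ⟨v, hv⟩ := exists_pt p' (IsPullback.lift_snd _ _ _ _)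
  refine ⟨v, ?_⟩
  rw [cx, ← Category.assoc]
  exact ((congrArg (· ≫ AffineSpace.map σ g) hv.symm)).trans (IsPullback.lift_fst _ _ _ _)

variable (V : (𝔸(σ; X)).Opens)

/-- The chart. -/
abbrev oX (g : Spec R ⟶ X) : (Spec (polyRing σ R)).Opens := cx g ⁻¹ᵁ V

/-- The chart map. -/
def jX (g : Spec R ⟶ X) : (oX V g : Scheme.{u}) ⟶ (V : Scheme.{u}) := cx g ∣_ V

theorem oX_comp (g : Spec R ⟶ X) (ψ : R ⟶ K) :
    oX V (Spec.map ψ ≫ g) = Spec.map (CommRingCat.ofHom (MvPolynomial.map (σ := σ) ψ.hom)) ⁻¹ᵁ oX V g := by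
  rw [oX, cx_comp]; rfl

/-- The map between charts. -/
def trX (g : Spec R ⟶ X) (ψ : R ⟶ K) (g' : Spec K ⟶ X) (hg : g' = Spec.map ψ ≫ g) :
    (oX V g' : Scheme.{u}) ⟶ (oX V g : Scheme.{u}) :=
  (Spec.map (CommRingCat.ofHom (MvPolynomial.map (σ := σ) ψ.hom))).resLE _ _
    (by rw [hg, oX_comp])

theorem trX_ι (g : Spec R ⟶ X) (ψ : R ⟶ K) (g' : Spec K ⟶ X) (hg : g' = Spec.map ψ ≫ g) :
    trX V g ψ g' hg ≫ (oX V g).ι =
      (oX V g').ι ≫ Spec.map (CommRingCat.ofHom (MvPolynomial.map (σ := σ) ψ.hom)) :=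
  Scheme.Hom.resLE_comp_ι _ _

theorem trX_jX (g : Spec R ⟶ X) (ψ : R ⟶ K) (g' : Spec K ⟶ X) (hg : g' = Spec.map ψ ≫ g) :
    trX V g ψ g' hg ≫ jX V g = jX V g' := by
  rw [← cancel_mono V.ι, Category.assoc, jX, jX, morphismRestrict_ι, morphismRestrict_ι,
    ← Category.assoc, trX_ι, Category.assoc, ← cx_comp, hg]

/-- A chosen coordinate vector of a point. -/
def vX (g : Spec R ⟶ X) (a : X ⟶ (V : Scheme.{u})) (ha : a ≫ V.ι ≫ (𝔸(σ; X) ↘ X) = 𝟙 X) : σ → R :=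
  (exists_eval g (g ≫ a ≫ V.ι) (by simp only [Category.assoc, ha, Category.comp_id])).choose

theorem vX_spec (g : Spec R ⟶ X) (a : X ⟶ (V : Scheme.{u})) (ha : a ≫ V.ι ≫ (𝔸(σ; X) ↘ X) = 𝟙 X) :
    Spec.map (CommRingCat.ofHom (eval (vX V g a ha))) ≫ cx g = g ≫ a ≫ V.ι :=
  (exists_eval g (g ≫ a ≫ V.ι) (by simp only [Category.assoc, ha, Category.comp_id])).choose_spec

/-- The point of the chart given by a section. -/
def secX (g : Spec R ⟶ X) (a : X ⟶ (V : Scheme.{u})) (ha : a ≫ V.ι ≫ (𝔸(σ; X) ↘ X) = 𝟙 X) :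
    Spec R ⟶ (oX V g : Scheme.{u}) :=
  IsOpenImmersion.lift (oX V g).ι (Spec.map (CommRingCat.ofHom (eval (vX V g a ha)))) (by
    rw [Scheme.Opens.range_ι]
    rintro _ ⟨y, rfl⟩
    show cx g _ ∈ V
    rw [← Scheme.Hom.comp_apply, vX_spec, Scheme.Hom.comp_apply, Scheme.Hom.comp_apply]
    exact (a (g y)).2)

theorem secX_ι (g : Spec R ⟶ X) (a : X ⟶ (V : Scheme.{u})) (ha : a ≫ V.ι ≫ (𝔸(σ; X) ↘ X) = 𝟙 X) :
    secX V g a ha ≫ (oX V g).ι = Spec.map (CommRingCat.ofHom (eval (vX V g a ha))) :=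
  IsOpenImmersion.lift_fac _ _ _

theorem secX_jX (g : Spec R ⟶ X) (a : X ⟶ (V : Scheme.{u})) (ha : a ≫ V.ι ≫ (𝔸(σ; X) ↘ X) = 𝟙 X) :
    secX V g a ha ≫ jX V g = g ≫ a := by
  rw [← cancel_mono V.ι, Category.assoc, Category.assoc, jX, morphismRestrict_ι, ← Category.assoc,
    secX_ι, vX_spec]

theorem eval_map_vX (g : Spec R ⟶ X) (ψ : R ⟶ K) (g' : Spec K ⟶ X) (hg : g' = Spec.map ψ ≫ g)
    (a : X ⟶ (V : Scheme.{u})) (ha : a ≫ V.ι ≫ (𝔸(σ; X) ↘ X) = 𝟙 X) :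
    vX V g' a ha = ψ ∘ vX V g a ha := by
  have h1 := vX_spec V g' a ha
  have h2 : Spec.map (CommRingCat.ofHom (eval (ψ ∘ vX V g a ha))) ≫ cx g' = g' ≫ a ≫ V.ι := by
    rw [hg, cx_comp, ← Category.assoc, ← Spec.map_comp, Category.assoc, ← vX_spec V g a ha,
      ← Category.assoc (Spec.map ψ), ← Spec.map_comp]
    congr 2
    refine CommRingCat.hom_ext (MvPolynomial.ringHom_ext (fun r => ?_) fun i => ?_) <;> simp
  have hpt : ∀ v : σ → K, Spec.map (CommRingCat.ofHom (eval v)) ≫ (AffineSpace.SpecIso σ K).inv = pt v :=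
    fun v => rfl
  have h3 : pt (k := K) (vX V g' a ha) = pt (k := K) (ψ ∘ vX V g a ha) := by
    refine (AffineSpace.isPullback_map (n := σ) g').hom_ext ?_ ?_
    · rw [← hpt, ← hpt, Category.assoc, Category.assoc]
      exact h1.trans h2.symm
    · simp only [← hpt, Category.assoc, AffineSpace.SpecIso_inv_over, ← Spec.map_comp]
      congr 1
      ext r
      simp
  rw [← hpt, ← hpt, cancel_mono] at h3
  funext i
  have := congr(($(Spec.map_injective h3)).hom (MvPolynomial.X i))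
  simpa using this

theorem secX_trX (g : Spec R ⟶ X) (ψ : R ⟶ K) (g' : Spec K ⟶ X) (hg : g' = Spec.map ψ ≫ g)
    (a : X ⟶ (V : Scheme.{u})) (ha : a ≫ V.ι ≫ (𝔸(σ; X) ↘ X) = 𝟙 X) :
    secX V g' a ha ≫ trX V g ψ g' hg = Spec.map ψ ≫ secX V g a ha := by
  rw [← cancel_mono (oX V g).ι, Category.assoc, Category.assoc, trX_ι, ← Category.assoc, secX_ι,
    secX_ι, ← Spec.map_comp, ← Spec.map_comp, eval_map_vX V g ψ g' hg a ha]
  congr 1
  refine CommRingCat.hom_ext (MvPolynomial.ringHom_ext (fun r => ?_) fun i => ?_) <;> simp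

/-- Unit functions on the generic chart take values at two sections differing by a unit. -/
theorem exists_unit_relX [IsDomain R] [IsDomain K] [UniqueFactorizationMonoid (MvPolynomial σ R)]
    [UniqueFactorizationMonoid (MvPolynomial σ K)] (g : Spec R ⟶ X) (ψ : R ⟶ K) (g' : Spec K ⟶ X)
    (hg : g' = Spec.map ψ ≫ g) (hfrac : @IsFractionRing R _ K _ ψ.hom.toAlgebra)
    (a b : X ⟶ (V : Scheme.{u})) (ha : a ≫ V.ι ≫ (𝔸(σ; X) ↘ X) = 𝟙 X) (hb : b ≫ V.ι ≫ (𝔸(σ; X) ↘ X) = 𝟙 X)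
    (w : Γ((oX V g' : Scheme.{u}), ⊤)) (hw : IsUnit w) :
    ∃ u : R, IsUnit u ∧ evR (secX V g' b hb) (W := ⊤) le_top w =
      ψ u * evR (secX V g' a ha) (W := ⊤) le_top w := by
  let _ : Algebra R K := ψ.hom.toAlgebra
  obtain ⟨c, d, hcd, he⟩ := exists_div_eq (polyRing σ K) (oX V g') w hw
  have hev : ∀ (r : X ⟶ (V : Scheme.{u})) (hr : r ≫ V.ι ≫ (𝔸(σ; X) ↘ X) = 𝟙 X)
      (q : MvPolynomial σ K), evR (secX V g' r hr) (W := ⊤) le_top
        (((Scheme.ΓSpecIso (polyRing σ K)).inv ≫ (oX V g').ι.appTop) q) =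
        eval (algebraMap R K ∘ vX V g r hr) q := by
    intro r hr q
    change (((Scheme.ΓSpecIso (polyRing σ K)).inv ≫ (oX V g').ι.appTop) ≫
      (secX V g' r hr).appLE ⊤ ⊤ le_top ≫ (Scheme.ΓSpecIso K).hom) q = _
    have : (oX V g').ι.appTop ≫ (secX V g' r hr).appLE ⊤ ⊤ le_top =
        (Spec.map (CommRingCat.ofHom (eval (vX V g' r hr)))).appTop := by
      rw [← secX_ι V g' r hr, Scheme.Hom.comp_appTop]
      exact congrArg ((oX V g').ι.appTop ≫ ·) (secX V g' r hr).app_eq_appLE.symm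
    rw [Category.assoc, reassoc_of% this, Scheme.ΓSpecIso_naturality, Iso.inv_hom_id_assoc,
      eval_map_vX V g ψ g' hg r hr]
    rfl
  have hmem : ∀ (r : X ⟶ (V : Scheme.{u})) (hr : r ≫ V.ι ≫ (𝔸(σ; X) ↘ X) = 𝟙 X)
      (m : PrimeSpectrum R), PrimeSpectrum.comap (eval (vX V g r hr)) m ∈
        ((oX V g).carrier : Set (PrimeSpectrum (MvPolynomial σ R))) := by
    intro r hr m
    have h := (secX V g r hr m).2
    have e : (oX V g).ι (secX V g r hr m) = Spec.map (CommRingCat.ofHom (eval (vX V g r hr))) m := by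
      rw [← Scheme.Hom.comp_apply, secX_ι]
    exact Set.mem_of_eq_of_mem e.symm h
  have key : ∀ q : MvPolynomial σ K, (∀ P : Spec (polyRing σ K), P ∈ oX V g' → q ∉ P.asIdeal) →
      ∃ u : Rˣ, eval (algebraMap R K ∘ vX V g b hb) q =
        algebraMap R K u * eval (algebraMap R K ∘ vX V g a ha) q := fun q hq =>
    exists_unit_eval ((oX V g).carrier : Set (PrimeSpectrum (MvPolynomial σ R)))
      (fun P Q hPQ hQ => Specializes.mem_open (X := PrimeSpectrum (MvPolynomial σ R))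
        ((PrimeSpectrum.le_iff_specializes _ _).1 hPQ) (oX V g).isOpen hQ)
      _ _ (hmem a ha) (hmem b hb) q fun Q hQ => hq Q (by rw [hg, oX_comp]; exact hQ)
  obtain ⟨u₁, hu₁⟩ := key c fun P hP => (hcd P hP).1
  obtain ⟨u₂, hu₂⟩ := key d fun P hP => (hcd P hP).2
  refine ⟨u₁ * ↑u₂⁻¹, u₁.isUnit.mul (Units.isUnit _), ?_⟩
  have hd0 : eval (algebraMap R K ∘ vX V g a ha) d ≠ 0 := by
    intro h0
    have := (hcd ((oX V g').ι (secX V g' a ha (⟨⊥, Ideal.isPrime_bot⟩ : PrimeSpectrum K)))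
      (secX V g' a ha _).2).2
    apply this
    rw [← Scheme.Hom.comp_apply, secX_ι, eval_map_vX V g ψ g' hg a ha]
    exact Ideal.mem_comap.2 ((Submodule.mem_bot K).2 h0)
  have e1 := congrArg (evR (secX V g' b hb) (W := ⊤) le_top) he
  have e2 := congrArg (evR (secX V g' a ha) (W := ⊤) le_top) he
  rw [map_mul, hev, hev, hu₁, hu₂] at e1
  rw [map_mul, hev, hev] at e2
  rw [← e2] at e1
  have h2 : algebraMap R K ↑u₂ * algebraMap R K ↑u₂⁻¹ = 1 := by
    rw [← map_mul, Units.mul_inv, map_one]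
  change _ = algebraMap R K (↑u₁ * ↑u₂⁻¹) * _
  refine mul_right_cancel₀ hd0 ?_
  rw [map_mul]
  linear_combination (algebraMap R K ↑u₂⁻¹) * e1 -
    (evR (secX V g' b hb) (W := ⊤) le_top w * eval (algebraMap R K ∘ vX V g a ha) d) * h2

end Groth.HomotopyNormal
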